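import Groth.Agent.CohTopDesc.Retract
import Groth.Agent.EtPullExact.Basic
import Mathlib.CategoryTheory.Limits.Shapes.WidePullbacks
import Mathlib.AlgebraicGeometry.Limits

/-!
Etale cohomology: an inverse image along a morphism with a section contains the cohomology of the
target as a direct summand.
-/

set_option autoImplicit false
set_option linter.style.haveILetI false
set_option linter.unusedSectionVars false
set_option backward.isDefEq.respectTransparency false
set_option backward.isDefEq.respectTransparency.types false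

universe u

open CategoryTheory Category Limits Opposite Abelian AlgebraicGeometry

namespace Groth.Agent.EtCohDesc

variable {X Y : Scheme.{u}}

instance pull_preservesFiniteLimits (g : X ⟶ Y) : PreservesFiniteLimits (EtCoh.pull g) :=
  EtPullExact.pull_preservesFiniteLimits g

instance pull_preservesFiniteColimits (g : X ⟶ Y) : PreservesFiniteColimits (EtCoh.pull g) := by
  haveI := (EtCoh.pullPushAdj g).leftAdjoint_preservesColimits
  infer_instance

instance pull_additive (g : X ⟶ Y) : (EtCoh.pull g).Additive := (EtCoh.pullPushAdj g).left_adjoint_additive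

/-- The base is terminal. -/
noncomputable def topTerminal (X : Scheme.{u}) : IsTerminal (EtCoh.top X) :=
  IsTerminal.ofUniqueHom (fun U => MorphismProperty.Over.homMk U.hom (comp_id _))
    fun U m => MorphismProperty.Over.Hom.ext ((comp_id _).symm.trans (MorphismProperty.Over.w m))

/-- The constant sheaf with value the integers. -/
noncomputable abbrev Zc (X : Scheme.{u}) : EtCoh.Ab X :=
  (constantSheaf X.smallEtaleTopology AddCommGrpCat.{u + 1}).obj (AddCommGrpCat.of (ULift.{u + 1} ℤ))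

/-- Inverse image of the constant sheaf. -/
noncomputable def pullConst (g : X ⟶ Y) : (EtCoh.pull g).obj (Zc Y) ≅ Zc X :=
  (Adjunction.leftAdjointUniq ((constantSheafAdj _ _ (topTerminal Y)).comp (EtCoh.pullPushAdj g))
    ((constantSheafAdj _ _ ((topTerminal Y).isTerminalObj (EtCoh.bc g))).ofNatIsoRight
      (Iso.refl _))).app _

/-- Inverse images along composites. -/
noncomputable def pullCompIso {Z : Scheme.{u}} (g : X ⟶ Y) (h : Y ⟶ Z) (k : X ⟶ Z) (e : g ≫ h = k) :
    EtCoh.pull h ⋙ EtCoh.pull g ≅ EtCoh.pull k :=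
  Adjunction.leftAdjointUniq ((EtCoh.pullPushAdj h).comp (EtCoh.pullPushAdj g))
    ((EtCoh.pullPushAdj k).ofNatIsoRight (EtCoh.pushComp h g ≪≫ EtCoh.pushCongr e).symm)

/-- Base change along the identity. -/
noncomputable def bcId (X : Scheme.{u}) : EtCoh.bc (𝟙 X) ≅ 𝟭 X.Etale :=
  NatIso.ofComponents (fun A => MorphismProperty.Over.isoMk (asIso (pullback.fst A.hom (𝟙 X)))
      (by
        dsimp [EtCoh.bc]
        rw [pullback.condition]
        exact comp_id _))
    fun {A B} m => MorphismProperty.Over.Hom.ext (pullback.lift_fst _ _ _)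

/-- Inverse image along the identity. -/
noncomputable def pullIdIso : EtCoh.pull (𝟙 X) ≅ 𝟭 (EtCoh.Ab X) :=
  Adjunction.leftAdjointUniq (EtCoh.pullPushAdj (𝟙 X)) (Adjunction.id.ofNatIsoRight
    (Functor.sheafPushforwardContinuousId' (bcId X) AddCommGrpCat.{u + 1} X.smallEtaleTopology).symm)

/-- Pull back of cohomology classes. -/
noncomputable def pullH (g : Y ⟶ X) (F : EtCoh.Ab X) (n : ℕ) :
    EtCoh.H X F n →+ EtCoh.H Y ((EtCoh.pull g).obj F) n :=
  (Ext.precompOfLinear (Ext.mk₀ (pullConst g).inv) ℤ _ (zero_add n)).toAddMonoidHom.comp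
    ((EtCoh.pull g).mapExtAddHom _ F n)

theorem exists_retract (g : Y ⟶ X) (σ : X ⟶ Y) (h : σ ≫ g = 𝟙 X) (F : EtCoh.Ab X) (n : ℕ) :
    ∃ (a : EtCoh.H X F n →+ EtCoh.H Y ((EtCoh.pull g).obj F) n)
      (b : EtCoh.H Y ((EtCoh.pull g).obj F) n →+ EtCoh.H X F n), ∀ x, b (a x) = x := by
  let Φ : EtCoh.pull g ⋙ EtCoh.pull σ ≅ 𝟭 (EtCoh.Ab X) :=
    pullCompIso σ g (𝟙 X) h ≪≫ pullIdIso
  let κ := Φ.inv.app (Zc X) ≫ (EtCoh.pull σ).map (pullConst g).hom
  let b' : EtCoh.H Y ((EtCoh.pull g).obj F) n → EtCoh.H X F n := fun y =>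
    ((Ext.mk₀ κ).comp (y.mapExactFunctor (EtCoh.pull σ)) (zero_add n)).comp
      (Ext.mk₀ (Φ.hom.app F)) (add_zero n)
  refine ⟨pullH g F n, AddMonoidHom.mk' b' fun y y' => by simp [b'], fun x => ?_⟩
  change b' ((Ext.mk₀ (pullConst g).inv).comp (x.mapExactFunctor (EtCoh.pull g)) (zero_add n)) = x
  simp only [b', Ext.mapExactFunctor_comp, Ext.mapExactFunctor_mk₀]
  rw [Ext.mk₀_comp_mk₀_assoc, show κ ≫ (EtCoh.pull σ).map (pullConst g).inv = Φ.inv.app (Zc X) by
    rw [assoc, ← Functor.map_comp, Iso.hom_inv_id, CategoryTheory.Functor.map_id]; exact comp_id _]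
  exact CohTopDesc.ext_map_map_eq _ _ Φ n (Zc X) F x

/-- Cohomology of isomorphic sheaves. -/
noncomputable def hIso {F F' : EtCoh.Ab X} (e : F ≅ F') (n : ℕ) :
    AddCommGrpCat.of (EtCoh.H X F n) ≅ AddCommGrpCat.of (EtCoh.H X F' n) :=
  (extFunctorObj _ n).mapIso e

section Powers

variable {S : Scheme.{u}} (f : X ⟶ S) (s : S ⟶ X) (hs : s ≫ f = 𝟙 S) (F : EtCoh.Ab S)

/-- The fibre power. -/
noncomputable abbrev P (p : ℕ) : Scheme.{u} :=
  widePullback S (fun _ : Fin (p + 1) => X) (fun _ => f)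

/-- Its structure map. -/
noncomputable abbrev base (p : ℕ) : P f p ⟶ S := WidePullback.base (fun _ : Fin (p + 1) => f)

/-- The pulled back sheaf. -/
noncomputable abbrev Fp (p : ℕ) : EtCoh.Ab (P f p) := (EtCoh.pull (base f p)).obj F

include hs in
theorem exists_retract_zero (n : ℕ) : ∃ (a : AddCommGrpCat.of (EtCoh.H S F n) ⟶ AddCommGrpCat.of (EtCoh.H (P f 0) (Fp f F 0) n))
    (b : AddCommGrpCat.of (EtCoh.H (P f 0) (Fp f F 0) n) ⟶ AddCommGrpCat.of (EtCoh.H S F n)), a ≫ b = 𝟙 _ := by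
  obtain ⟨a, b, h⟩ := exists_retract (base f 0) (WidePullback.lift (𝟙 S) (fun _ => s) (fun _ => hs))
    (WidePullback.lift_base _ _ _ _) F n
  exact ⟨AddCommGrpCat.ofHom a, AddCommGrpCat.ofHom b, AddCommGrpCat.ext h⟩

include hs in
theorem exists_retract_succ (p n : ℕ) :
    ∃ (a : AddCommGrpCat.of (EtCoh.H (P f p) (Fp f F p) n) ⟶ AddCommGrpCat.of (EtCoh.H (P f (p + 1)) (Fp f F (p + 1)) n))
    (b : AddCommGrpCat.of (EtCoh.H (P f (p + 1)) (Fp f F (p + 1)) n) ⟶ AddCommGrpCat.of (EtCoh.H (P f p) (Fp f F p) n)),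
      a ≫ b = 𝟙 _ := by
  let g : P f (p + 1) ⟶ P f p := WidePullback.lift (base f (p + 1))
    (fun i => WidePullback.π (fun _ : Fin (p + 1 + 1) => f) i.succ) (fun i => WidePullback.π_arrow _ _)
  let σ : P f p ⟶ P f (p + 1) := WidePullback.lift (base f p)
    (fun i => Fin.cases (base f p ≫ s) (fun j => WidePullback.π (fun _ : Fin (p + 1) => f) j) i)
    (fun i => by
      cases i using Fin.cases with
      | zero => simp [hs]
      | succ j => simp)
  have hσ : σ ≫ g = 𝟙 _ := by
    refine WidePullback.hom_ext _ _ _ (fun i => ?_) ?_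
    · rw [assoc, WidePullback.lift_π, WidePullback.lift_π, id_comp, Fin.cases_succ]
    · rw [assoc, WidePullback.lift_base, WidePullback.lift_base, id_comp]
  obtain ⟨a, b, h⟩ := exists_retract g σ hσ (Fp f F p) n
  let e := hIso ((pullCompIso g (base f p) (base f (p + 1)) (WidePullback.lift_base _ _ _ _)).app F) n
  exact ⟨AddCommGrpCat.ofHom a ≫ e.hom, e.inv ≫ AddCommGrpCat.ofHom b, by
    rw [assoc, Iso.hom_inv_id_assoc]; exact AddCommGrpCat.ext h⟩

end Powers

end Groth.Agent.EtCohDesc
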