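import Groth.Agent.EtCohDesc.Retract
import Groth.Agent.CohTopDesc.SplitSS

/-!
The descent spectral sequence of a map with a section.
-/

set_option autoImplicit false
set_option linter.style.haveILetI false
set_option backward.isDefEq.respectTransparency false
set_option backward.isDefEq.respectTransparency.types false

universe u

open CategoryTheory Category Limits AlgebraicGeometry
open Groth.Agent.CohTopDesc (exists_splitSS)

namespace Groth.Agent.EtCohDesc

theorem descent_ss_of_section {X Y : Scheme.{u}} (f : X ⟶ Y) (s : Y ⟶ X)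
    (hs : s ≫ f = 𝟙 Y) (F : EtCoh.Ab Y) :
    ∃ (E : CohomologicalSpectralSequence AddCommGrpCat.{u + 1} 1)
      (a : SpSeq.Abutment E (fun n : ℤ =>
        if 0 ≤ n then AddCommGrpCat.of (EtCoh.H Y F n.toNat) else AddCommGrpCat.of PUnit.{u + 2})),
      (∀ n, a.IsFinite n) ∧ SpSeq.IsBounded E ∧
      ∀ p q : ℤ, Nonempty ((E.page 1 le_rfl).X (p, q) ≅
        (if 0 ≤ p ∧ 0 ≤ q then
          AddCommGrpCat.of (EtCoh.H (widePullback Y (fun _ : Fin (p.toNat + 1) => X) (fun _ => f))
            ((EtCoh.pull (WidePullback.base (fun _ : Fin (p.toNat + 1) => f) :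
              widePullback Y (fun _ : Fin (p.toNat + 1) => X) (fun _ => f) ⟶ Y)).obj F) q.toNat)
         else AddCommGrpCat.of PUnit.{u + 2})) := by
  let H : ℕ → AddCommGrpCat.{u + 1} := fun q => AddCommGrpCat.of (EtCoh.H Y F q)
  let A : ℕ → ℕ → AddCommGrpCat.{u + 1} := fun q p => AddCommGrpCat.of (EtCoh.H (P f p) (Fp f F p) q)
  choose a₀ b₀ h₀ using fun q => exists_retract_zero f s hs F q
  choose a₁ b₁ h₁ using fun q p => exists_retract_succ f s hs F p q
  obtain ⟨E, a, ha, hb, hX⟩ := exists_splitSS H A (fun q => ⟨a₀ q, b₀ q, h₀ q⟩)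
    (fun q p => ⟨a₁ q p, b₁ q p, h₁ q p⟩) (AddCommGrpCat.of PUnit.{u + 2}) (AddCommGrpCat.isZero_of_subsingleton _)
    (fun n : ℤ => if 0 ≤ n then AddCommGrpCat.of (EtCoh.H Y F n.toNat) else AddCommGrpCat.of PUnit.{u + 2})
    (fun q => ⟨eqToIso (if_pos (Int.natCast_nonneg q))⟩)
    (fun n hn => by rw [if_neg (not_le.2 hn)]; exact AddCommGrpCat.isZero_of_subsingleton _)
  refine ⟨E, a, ha, hb, fun p q => ⟨(hX p q).some ≪≫ eqToIso ?_⟩⟩
  cases p with
  | ofNat m =>
    cases q with
    | ofNat n => exact (if_pos ⟨Int.natCast_nonneg m, Int.natCast_nonneg n⟩).symm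
    | negSucc n => exact (if_neg (fun h => absurd h.2 (by omega))).symm
  | negSucc m => exact (if_neg (fun h => absurd h.1 (by omega))).symm

end Groth.Agent.EtCohDesc
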